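import Mathlib
import Cfsg.Agent.Core.MinimalNormal

/-!
A non-abelian minimal normal subgroup is generated by the conjugates of a simple subgroup, which
commute pairwise.
-/

set_option autoImplicit false

namespace Cfsg.Agent.ExtremelyPrim

open Subgroup

variable {G : Type*} [Group G]

/-- The conjugate `g T g⁻¹`. -/
def cj (g : G) (T : Subgroup G) : Subgroup G := T.comap (MulAut.conj g⁻¹).toMonoidHom

theorem mem_cj {g x : G} {T : Subgroup G} : x ∈ cj g T ↔ g⁻¹ * x * g ∈ T := by
  simp [cj, mem_comap]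

theorem conj_mem_cj {g t : G} {T : Subgroup G} (ht : t ∈ T) : g * t * g⁻¹ ∈ cj g T := by
  rw [mem_cj]
  simpa [mul_assoc] using ht

theorem exists_of_mem_cj {g x : G} {T : Subgroup G} (hx : x ∈ cj g T) :
    ∃ t ∈ T, g * t * g⁻¹ = x := ⟨g⁻¹ * x * g, mem_cj.mp hx, by group⟩

theorem cj_one (T : Subgroup G) : cj 1 T = T := by
  ext x
  simp [mem_cj]

theorem cj_cj (g h : G) (T : Subgroup G) : cj g (cj h T) = cj (g * h) T := by
  ext x
  simp [mem_cj, mul_assoc]

theorem cj_inj {g : G} {A B : Subgroup G} (h : cj g A = cj g B) : A = B := by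
  have := congrArg (cj g⁻¹) h
  rwa [cj_cj, cj_cj, inv_mul_cancel, cj_one, cj_one] at this

theorem cj_mono {g : G} {A B : Subgroup G} (h : A ≤ B) : cj g A ≤ cj g B := comap_mono h

theorem card_cj (g : G) (T : Subgroup G) : Nat.card (cj g T) = Nat.card T :=
  Nat.card_congr ((MulAut.conj g⁻¹).toEquiv.subtypeEquiv fun _ => Iff.rfl)

variable [Finite G]

theorem exists_factor {N : Subgroup G} (hN : Core.IsMinNormal N)
    (hna : ¬ ∀ a ∈ N, ∀ b ∈ N, a * b = b * a) :
    ∃ T : Subgroup G, T ≤ N ∧ IsSimpleGroup T ∧ (¬ ∀ a b : T, a * b = b * a) ∧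
      (∀ n ∈ N, ∀ g, cj n (cj g T) = cj g T) ∧ N = ⨆ g, cj g T ∧
      (∀ g h, cj g T ≠ cj h T → ∀ a ∈ cj g T, ∀ b ∈ cj h T, a * b = b * a) ∧
      (∀ g, cj g T ≠ T → T ⊓ cj g T = ⊥) := by
  have hNn := hN.normal
  have hNnt : Nontrivial N := (nontrivial_iff_ne_bot N).mpr hN.ne_bot
  obtain ⟨K, hK⟩ := Core.exists_isMinNormal (G := N)
  set T : Subgroup G := K.map N.subtype with hT
  have hTN : T ≤ N := map_subtype_le K
  have hTb : T ≠ ⊥ := fun e =>
    hK.ne_bot ((map_eq_bot_iff_of_injective K N.subtype_injective).mp e)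
  have hnormT : ∀ n ∈ N, ∀ t ∈ T, n * t * n⁻¹ ∈ T := by
    rintro n hn _ ⟨k, hk, rfl⟩
    exact ⟨⟨n, hn⟩ * k * ⟨n, hn⟩⁻¹, hK.normal.conj_mem k hk _, rfl⟩
  have hminT : ∀ U : Subgroup G, U ≤ T → (∀ n ∈ N, ∀ u ∈ U, n * u * n⁻¹ ∈ U) → U = ⊥ ∨ U = T := by
    intro U hU hn
    rcases hK.eq_of_le (U.subgroupOf N)
      ⟨fun a ha g => hn g g.2 a ha⟩ (fun a ha => by
        obtain ⟨k, hk, e⟩ := hU (mem_subgroupOf.mp ha)
        exact (Subtype.ext e : k = a) ▸ hk) with e | e
    · refine Or.inl (le_bot_iff.mp fun u hu => ?_)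
      have h1 : (⟨u, hTN (hU hu)⟩ : N) ∈ U.subgroupOf N := mem_subgroupOf.mpr hu
      rw [e, mem_bot, Subtype.ext_iff] at h1
      exact mem_bot.mpr h1
    · refine Or.inr (le_antisymm hU ?_)
      rintro _ ⟨k, hk, rfl⟩
      exact mem_subgroupOf.mp (e.symm ▸ hk)
  have hcjN : ∀ g, cj g T ≤ N := fun g x hx => by
    obtain ⟨t, ht, rfl⟩ := exists_of_mem_cj hx
    exact hNn.conj_mem t (hTN ht) g
  have hnorm : ∀ n ∈ N, ∀ g, cj n (cj g T) = cj g T := by
    intro n hn g
    refine eq_of_le_of_card_ge (fun x hx => ?_) (card_cj n _).ge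
    obtain ⟨y, hy, rfl⟩ := exists_of_mem_cj hx
    obtain ⟨t, ht, rfl⟩ := exists_of_mem_cj hy
    have h1 : g⁻¹ * n * g ∈ N := by simpa using hNn.conj_mem n hn g⁻¹
    have := conj_mem_cj (g := g) (hnormT _ h1 t ht)
    simpa [mul_assoc] using this
  have hdisj : ∀ g h, cj g T ≠ cj h T → cj g T ⊓ cj h T = ⊥ := by
    intro g h hne
    set U : Subgroup G := cj g⁻¹ (cj g T ⊓ cj h T) with hU
    have hUT : U ≤ T := (cj_mono inf_le_left).trans
      (le_of_eq (by rw [cj_cj, inv_mul_cancel, cj_one]))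
    rcases hminT U hUT (fun n hn u hu => by
      have h1 : g * u * g⁻¹ ∈ cj g T ⊓ cj h T := by
        rw [hU, mem_cj, inv_inv] at hu
        exact hu
      have h2 : g * n * g⁻¹ ∈ N := hNn.conj_mem n hn g
      have h3 : ∀ (k : G) {z}, z ∈ cj k T → (g * n * g⁻¹) * z * (g * n * g⁻¹)⁻¹ ∈ cj k T :=
        fun k {z} hz => (hnorm _ h2 k).le (conj_mem_cj hz)
      rw [hU, mem_cj, inv_inv]
      have e : g * (n * u * n⁻¹) * g⁻¹
          = (g * n * g⁻¹) * (g * u * g⁻¹) * (g * n * g⁻¹)⁻¹ := by group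
      rw [e]
      exact ⟨h3 g h1.1, h3 h h1.2⟩) with e | e
    · have := congrArg (cj g) e
      rw [hU, cj_cj, mul_inv_cancel, cj_one] at this
      rw [this]
      exact eq_bot_iff.mpr fun x hx => by
        rw [mem_cj, mem_bot] at hx
        have hx' : x = g * (g⁻¹ * x * g) * g⁻¹ := by group
        rw [hx', hx, mul_one, mul_inv_cancel]
        exact mem_bot.mpr rfl
    · have := congrArg (cj g) e
      rw [hU, cj_cj, mul_inv_cancel, cj_one] at this
      exact absurd (eq_of_le_of_card_ge (inf_eq_left.mp this) (by rw [card_cj, card_cj])) hne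
  have hcomm : ∀ g h, cj g T ≠ cj h T → ∀ a ∈ cj g T, ∀ b ∈ cj h T, a * b = b * a := by
    intro g h hne a ha b hb
    have h1 : a * b * a⁻¹ * b⁻¹ ∈ cj g T ⊓ cj h T := by
      refine ⟨?_, (cj h T).mul_mem ((hnorm a (hcjN g ha) h).le (conj_mem_cj hb))
        ((cj h T).inv_mem hb)⟩
      have := (hnorm b (hcjN h hb) g).le (conj_mem_cj (g := b) (inv_mem ha))
      simpa [mul_assoc] using mul_mem ha this
    rw [hdisj g h hne, mem_bot] at h1
    exact mul_inv_eq_iff_eq_mul.mp (mul_inv_eq_one.mp h1)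
  have hsup : N = ⨆ g, cj g T := by
    set S : Subgroup G := ⨆ g, cj g T with hS
    have hSN : S ≤ N := iSup_le hcjN
    have hSn : S.Normal := by
      refine ⟨fun a ha x => ?_⟩
      have hle : S ≤ S.comap (MulAut.conj x).toMonoidHom := iSup_le fun g y hy => by
        rw [mem_comap]
        exact le_iSup (fun g => cj g T) (x * g) (by rw [← cj_cj]; exact conj_mem_cj hy)
      exact hle ha
    refine ((hN.eq_of_le S hSn hSN).resolve_left fun e => hTb ?_).symm
    exact le_bot_iff.mp ((cj_one T).ge.trans ((le_iSup (fun g => cj g T) 1).trans e.le))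
  have hTna : ¬ ∀ a b : T, a * b = b * a := by
    intro hab
    refine hna fun a ha b hb => ?_
    have hle : N ≤ centralizer (N : Set G) := by
      conv_lhs => rw [hsup]
      refine iSup_le fun g => le_centralizer_iff.mp ?_
      rw [hsup]
      refine iSup_le fun h y hy x hx => ?_
      rcases eq_or_ne (cj g T) (cj h T) with e | e
      · rw [← e] at hy
        obtain ⟨s, hs, rfl⟩ := exists_of_mem_cj hx
        obtain ⟨t, ht, rfl⟩ := exists_of_mem_cj hy
        have hst : s * t = t * s := congrArg Subtype.val (hab ⟨s, hs⟩ ⟨t, ht⟩)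
        simp only [mul_assoc, inv_mul_cancel_left]
        rw [← mul_assoc s, ← mul_assoc t, hst]
      · exact hcomm g h e x hx y hy
    exact hle hb a ha
  have hTs : IsSimpleGroup T := by
    have : Nontrivial T := (nontrivial_iff_ne_bot T).mpr hTb
    refine ⟨fun U hU => ?_⟩
    rcases hminT (U.map T.subtype) (map_subtype_le U) (fun n hn u hu => by
      have hle : N ≤ normalizer ((U.map T.subtype : Subgroup G) : Set G) := by
        rw [hsup]
        refine iSup_le fun g => ?_
        rcases eq_or_ne (cj g T) T with e | e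
        · rw [e]
          have hUe : (U.map T.subtype).subgroupOf T = U := by
            rw [← comap_subtype, comap_map_eq_self_of_injective T.subtype_injective]
          refine (normal_subgroupOf_iff_le_normalizer (map_subtype_le U)).mp ?_
          rw [hUe]
          exact hU
        · refine le_trans (b := centralizer ((U.map T.subtype : Subgroup G) : Set G))
            (fun y hy z hz => ?_) (centralizer_le_normalizer _)
          have := hcomm g 1 (by rwa [cj_one]) y hy z (by rw [cj_one]; exact map_subtype_le U hz)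
          exact this.symm
      exact (mem_normalizer_iff.mp (hle hn) u).mp hu) with e | e
    · exact Or.inl ((map_eq_bot_iff_of_injective U T.subtype_injective).mp e)
    · refine Or.inr (eq_top_iff.mpr fun x _ => ?_)
      obtain ⟨y, hy, e'⟩ := e.ge x.2
      exact (Subtype.ext e' : y = x) ▸ hy
  refine ⟨T, hTN, hTs, hTna, hnorm, hsup, hcomm, fun g hg => ?_⟩
  have := hdisj 1 g (by rw [cj_one]; exact hg.symm)
  rwa [cj_one] at this

end Cfsg.Agent.ExtremelyPrim
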