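import Mathlib.GroupTheory.GroupAction.Primitive
import Mathlib.GroupTheory.Index
import Cfsg.Agent.Core.Primitive

/-!
Extremely primitive groups: every point stabiliser is primitive on each of its orbits.
Manning's theorem (the stabiliser is faithful on each of its non-trivial orbits) and its
first consequences.
-/

set_option autoImplicit false

namespace Cfsg.Agent.ExtremelyPrim

open MulAction Subgroup
open scoped Pointwise

variable {G : Type*} [Group G] {Ω : Type*} [MulAction G Ω]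

/-- Every point stabiliser is primitive on each of its orbits. -/
def EPrim (G : Type*) [Group G] (Ω : Type*) [MulAction G Ω] : Prop :=
  ∀ (α ω : Ω), IsPreprimitive (stabilizer G α) (orbit (stabilizer G α) ω)

/-- A subgroup normalised by a point stabiliser and contained in it is trivial or transitive on
each orbit of that stabiliser. -/
theorem fix_or_transitive (hep : EPrim G Ω) {α : Ω} {L : Subgroup G}
    (hle : L ≤ stabilizer G α) (hn : stabilizer G α ≤ normalizer (L : Set G)) (ω : Ω) :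
    (∀ x ∈ orbit (stabilizer G α) ω, ∀ l ∈ L, l • x = x) ∨
    (∀ x ∈ orbit (stabilizer G α) ω, ∀ y ∈ orbit (stabilizer G α) ω, ∃ l ∈ L, l • x = y) := by
  have := hep α ω
  set M : Subgroup (stabilizer G α) := L.subgroupOf (stabilizer G α) with hM
  have hMn : M.Normal := normal_subgroupOf_iff_le_normalizer hle |>.mpr hn
  by_cases h : fixedPoints M (orbit (stabilizer G α) ω) = .univ
  · left
    intro x hx l hl
    have h' := h ▸ Set.mem_univ (⟨x, hx⟩ : orbit (stabilizer G α) ω)
    exact congrArg Subtype.val (h' ⟨⟨l, hle hl⟩, mem_subgroupOf.mpr hl⟩)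
  · right
    have := IsQuasiPreprimitive.isPretransitive_of_normal h
    intro x hx y hy
    obtain ⟨⟨m, hm⟩, hmxy⟩ := exists_smul_eq M (⟨x, hx⟩ : orbit (stabilizer G α) ω) ⟨y, hy⟩
    exact ⟨m, mem_subgroupOf.mp hm, congrArg Subtype.val hmxy⟩

theorem mem_orbit_stab_iff {α ω x : Ω} :
    x ∈ orbit (stabilizer G α) ω ↔ ∃ h ∈ stabilizer G α, h • ω = x :=
  ⟨fun ⟨⟨h, hh⟩, e⟩ => ⟨h, hh, e⟩, fun ⟨h, hh, e⟩ => ⟨⟨h, hh⟩, e⟩⟩

theorem orbit_smul (g : G) (α ω : Ω) :
    orbit (stabilizer G (g • α)) (g • ω) = (g • ·) '' orbit (stabilizer G α) ω := by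
  ext x
  simp only [Set.mem_image, mem_orbit_stab_iff]
  constructor
  · rintro ⟨h, hh, rfl⟩
    refine ⟨(g⁻¹ * h * g) • ω, ⟨g⁻¹ * h * g, ?_, rfl⟩, ?_⟩
    · rw [mem_stabilizer_iff] at hh ⊢
      rw [mul_smul, mul_smul, hh, inv_smul_smul]
    · rw [mul_smul, mul_smul, smul_inv_smul]
  · rintro ⟨_, ⟨h, hh, rfl⟩, rfl⟩
    refine ⟨g * h * g⁻¹, ?_, ?_⟩
    · rw [mem_stabilizer_iff] at hh ⊢
      rw [mul_smul, mul_smul, inv_smul_smul, hh]
    · rw [mul_smul, mul_smul, inv_smul_smul]

/-- The size of the orbit of `ω` under the stabiliser of `α`. -/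
noncomputable def sz (G : Type*) [Group G] {Ω : Type*} [MulAction G Ω] (α ω : Ω) : ℕ :=
  (orbit (stabilizer G α) ω).ncard

theorem sz_smul (g : G) (α ω : Ω) : sz G (g • α) (g • ω) = sz G α ω := by
  rw [sz, sz, orbit_smul, Set.ncard_image_of_injective _ (MulAction.injective g)]

theorem sz_mul [Finite G] (α ω : Ω) :
    sz G α ω * Nat.card (stabilizer G α ⊓ stabilizer G ω : Subgroup G)
      = Nat.card (stabilizer G α) := by
  rw [sz, ← index_stabilizer,
    show stabilizer (stabilizer G α) ω = (stabilizer G ω).subgroupOf (stabilizer G α) from rfl,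
    ← relIndex, ← inf_relIndex_left, ← relIndex_bot_left (stabilizer G α ⊓ stabilizer G ω),
    ← relIndex_bot_left (stabilizer G α), mul_comm]
  exact relIndex_mul_relIndex _ _ _ bot_le inf_le_left

theorem sz_symm [Finite G] [IsPretransitive G Ω] (α ω : Ω) : sz G α ω = sz G ω α := by
  have h1 := sz_mul (G := G) α ω
  have h2 := sz_mul (G := G) ω α
  obtain ⟨g, hg⟩ := exists_smul_eq G α ω
  have hc : Nat.card (stabilizer G ω) = Nat.card (stabilizer G α) := by
    exact (Nat.card_congr (stabilizerEquivStabilizer hg.symm).toEquiv).symm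
  rw [inf_comm, hc, ← h1] at h2
  exact (Nat.eq_of_mul_eq_mul_right Nat.card_pos h2).symm

variable [Finite G] [Finite Ω] [FaithfulSMul G Ω]

theorem isCoatom_stab [Nontrivial Ω] (hprim : IsPreprimitive G Ω) (α : Ω) :
    IsCoatom (stabilizer G α) :=
  IsPreprimitive.isCoatom_stabilizer_of_isPreprimitive G α

theorem eq_bot_of_normalised [Nontrivial Ω] (hprim : IsPreprimitive G Ω) {α γ : Ω}
    (hne : stabilizer G γ ≠ stabilizer G α) {L : Subgroup G} (hle : L ≤ stabilizer G α)
    (h1 : stabilizer G α ≤ normalizer (L : Set G)) (h2 : stabilizer G γ ≤ normalizer (L : Set G)) :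
    L = ⊥ := by
  have hc := isCoatom_stab hprim α
  have : L.Normal := by
    rw [← normalizer_eq_top_iff]
    refine top_le_iff.mp (le_of_eq_of_le ?_ (sup_le h1 h2))
    refine (hc.2 _ (lt_of_le_of_ne le_sup_left fun e => hne ?_)).symm
    have hle' : stabilizer G γ ≤ stabilizer G α := e ▸ le_sup_right
    exact ((isCoatom_stab hprim γ).le_iff.mp hle').elim (fun h => absurd h hc.1) Eq.symm
  exact le_bot_iff.mp (Core.stabilizer_normalCore_eq_bot hprim.toIsPretransitive α ▸
    normal_le_normalCore.mpr hle)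

omit [Finite G] [Finite Ω] in
/-- With a non-trivial point stabiliser, distinct points have distinct stabilisers. -/
theorem stab_ne [Nontrivial Ω] (hprim : IsPreprimitive G Ω) {α γ : Ω}
    (hH : stabilizer G α ≠ ⊥) (hne : γ ≠ α) : stabilizer G γ ≠ stabilizer G α := by
  intro he
  have := hprim
  have hc := IsPreprimitive.isCoatom_stabilizer_of_isPreprimitive G α (X := Ω)
  obtain ⟨g, hg⟩ := exists_smul_eq G α γ
  have hgn : g ∈ normalizer (stabilizer G α : Set G) := by
    rw [mem_normalizer_iff]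
    intro h
    conv_rhs => rw [← he, mem_stabilizer_iff, ← hg]
    rw [mem_stabilizer_iff, mul_smul, mul_smul, inv_smul_smul,
      smul_left_cancel_iff]
  have htop : normalizer (stabilizer G α : Set G) = ⊤ := by
    refine hc.2 _ (lt_of_le_of_ne le_normalizer fun e => hne ?_)
    rw [← e, mem_stabilizer_iff] at hgn
    exact hg ▸ hgn
  have : (stabilizer G α).Normal := normalizer_eq_top_iff.mp htop
  exact hH (Core.stabilizer_normalCore_eq_bot hprim.toIsPretransitive α ▸
    (normalCore_eq_self _).symm)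

/-- A non-trivial subgroup normalised by `G_α` fixing one non-trivial orbit fixes all the largest
ones. -/
theorem fixes_largest [Nontrivial Ω] (hprim : IsPreprimitive G Ω) (hep : EPrim G Ω) {α γ : Ω}
    {L : Subgroup G} (hL : L ≠ ⊥) (hle : L ≤ stabilizer G α)
    (hn : stabilizer G α ≤ normalizer (L : Set G)) (hne : stabilizer G γ ≠ stabilizer G α)
    (hγ : ∀ l ∈ L, l • γ = γ) {σ : Ω} (hσ : σ ≠ α) (hmax : ∀ δ, sz G γ δ ≤ sz G α σ) :
    ∀ l ∈ L, l • σ = σ := by
  by_contra hmoved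
  rcases fix_or_transitive hep hle hn σ with h | h
  · exact hmoved (h σ (mem_orbit_self σ))
  have hsub : orbit (stabilizer G α) σ ⊆ orbit (stabilizer G γ) σ := fun x hx => by
    obtain ⟨l, hl, e⟩ := h σ (mem_orbit_self σ) x hx
    exact mem_orbit_stab_iff.mpr ⟨l, mem_stabilizer_iff.mpr (hγ l hl), e⟩
  have heq : orbit (stabilizer G α) σ = orbit (stabilizer G γ) σ :=
    Set.eq_of_subset_of_ncard_le hsub (hmax σ) (Set.toFinite _)
  -- the orbit is invariant under both stabilisers, hence under `G`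
  have hα : stabilizer G α ≤ stabilizer G (orbit (stabilizer G α) σ) := fun g hg =>
    mem_stabilizer_iff.mpr (smul_orbit (⟨g, hg⟩ : stabilizer G α) σ)
  have hγ' : stabilizer G γ ≤ stabilizer G (orbit (stabilizer G α) σ) := fun g hg => by
    rw [mem_stabilizer_iff, heq]
    exact smul_orbit (⟨g, hg⟩ : stabilizer G γ) σ
  have hc := isCoatom_stab hprim α
  have htop : stabilizer G (orbit (stabilizer G α) σ) = ⊤ := by
    refine hc.2 _ (lt_of_le_of_ne hα fun e => hne ?_)
    exact ((isCoatom_stab hprim γ).le_iff.mp (e ▸ hγ')).elim (fun h => absurd h hc.1) Eq.symm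
  obtain ⟨g, hg⟩ := exists_smul_eq G σ α
  have hmem : α ∈ orbit (stabilizer G α) σ := by
    have hgS : g ∈ stabilizer G (orbit (stabilizer G α) σ) := htop ▸ mem_top g
    rw [mem_stabilizer_iff] at hgS
    exact hgS ▸ ⟨σ, mem_orbit_self σ, hg⟩
  obtain ⟨⟨t, ht⟩, e⟩ := hmem
  rw [mem_stabilizer_iff] at ht
  exact hσ (MulAction.injective t (e.trans ht.symm))

/-- The elements of `G_α` fixing every point `σ ≠ α` whose suborbit is of largest size. -/
def bigKer (G : Type*) [Group G] {Ω : Type*} [MulAction G Ω] (s : ℕ) (α : Ω) : Subgroup G where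
  carrier := {g | g • α = α ∧ ∀ σ, σ ≠ α → sz G α σ = s → g • σ = σ}
  one_mem' := ⟨one_smul _ _, fun _ _ _ => one_smul _ _⟩
  mul_mem' ha hb := ⟨by rw [mul_smul, hb.1, ha.1],
    fun σ h h' => by rw [mul_smul, hb.2 σ h h', ha.2 σ h h']⟩
  inv_mem' ha := ⟨inv_smul_eq_iff.mpr ha.1.symm,
    fun σ h h' => inv_smul_eq_iff.mpr (ha.2 σ h h').symm⟩

omit [Finite G] [Finite Ω] [FaithfulSMul G Ω] in
theorem bigKer_smul {s : ℕ} {α : Ω} {k : G} (g : G) :
    g * k * g⁻¹ ∈ bigKer G s (g • α) ↔ k ∈ bigKer G s α := by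
  show (_ ∧ _) ↔ (_ ∧ _)
  refine and_congr ?_ ⟨fun h σ hσ hs => ?_, fun h σ hσ hs => ?_⟩
  · rw [mul_smul, mul_smul, inv_smul_smul, smul_left_cancel_iff]
  · have := h (g • σ) (fun e => hσ (MulAction.injective g e)) ((sz_smul g α σ).trans hs)
    rwa [mul_smul, mul_smul, inv_smul_smul, smul_left_cancel_iff] at this
  · have h2 := h (g⁻¹ • σ) (fun e => hσ (inv_smul_eq_iff.mp e))
      ((sz_smul g α (g⁻¹ • σ)).symm.trans (by rwa [smul_inv_smul]))
    rw [mul_smul, mul_smul, h2, smul_inv_smul]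

/-- Manning's theorem. -/
theorem faithful_suborbit (hprim : IsPreprimitive G Ω) (hep : EPrim G Ω) {α ω : Ω}
    (hω : ω ≠ α) {L : Subgroup G} (hle : L ≤ stabilizer G α)
    (hn : stabilizer G α ≤ normalizer (L : Set G)) (hfix : ∀ l ∈ L, l • ω = ω) : L = ⊥ := by
  classical
  by_contra hL
  have hnt : Nontrivial Ω := ⟨⟨ω, α, hω⟩⟩
  have hH : stabilizer G α ≠ ⊥ := fun e => hL (le_bot_iff.mp (e ▸ hle))
  have := hprim
  have hH' : ∀ a : Ω, stabilizer G a ≠ ⊥ := fun a => by
    obtain ⟨g, hg⟩ := exists_smul_eq G α a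
    have := (Subgroup.nontrivial_iff_ne_bot _).mpr hH
    obtain ⟨⟨k, hk⟩, hk1⟩ := exists_ne (1 : stabilizer G α)
    refine fun e => hk1 ?_
    have : g * k * g⁻¹ ∈ stabilizer G a := by
      rw [← hg, mem_stabilizer_iff, mul_smul, mul_smul, inv_smul_smul, mem_stabilizer_iff.mp hk]
    rw [e, mem_bot, conj_eq_one_iff] at this
    exact Subtype.ext this
  -- the largest suborbit size
  have hfin : (Set.range (fun p : {p : Ω × Ω // p.2 ≠ p.1} => sz G p.1.1 p.1.2)).Finite :=
    Set.finite_range _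
  obtain ⟨s, ⟨⟨⟨a₀, b₀⟩, hab₀⟩, hs₀⟩, hsmax⟩ := hfin.exists_maximal ⟨_, ⟨(α, ω), hω⟩, rfl⟩
  have hle_s : ∀ a b : Ω, sz G a b ≤ s := by
    intro a b
    rcases eq_or_ne b a with rfl | hb
    · have h1 : sz G b b = 1 := by
        rw [sz, Set.ncard_eq_one]
        refine ⟨b, Set.eq_singleton_iff_unique_mem.mpr ⟨mem_orbit_self b, ?_⟩⟩
        rintro x ⟨⟨t, ht⟩, rfl⟩
        exact ht
      have h2 : 0 < s := by
        rw [← hs₀]
        exact (Set.ncard_pos (Set.toFinite _)).mpr ⟨b₀, mem_orbit_self b₀⟩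
      omega
    · exact (le_total _ _).elim id fun h => hsmax ⟨⟨(a, b), hb⟩, rfl⟩ h
  obtain ⟨γ₀, hγ₀ne, hγ₀⟩ : ∃ γ, γ ≠ α ∧ sz G α γ = s := by
    obtain ⟨g, hg⟩ := exists_smul_eq G a₀ α
    exact ⟨g • b₀, fun e => hab₀ (MulAction.injective g (e.trans hg.symm)),
      by rw [← hs₀, ← hg, sz_smul]⟩
  have hKn : ∀ a : Ω, stabilizer G a ≤ normalizer (bigKer G s a : Set G) := fun a g hg => by
    rw [mem_normalizer_iff]
    intro k
    have := bigKer_smul (s := s) (α := a) (k := k) g
    rw [mem_stabilizer_iff.mp hg] at this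
    exact this.symm
  have hKle : ∀ a : Ω, bigKer G s a ≤ stabilizer G a := fun a k hk => hk.1
  -- a subgroup fixing some non-trivial suborbit lies in `bigKer`
  have hbig : ∀ {M : Subgroup G}, M ≠ ⊥ → M ≤ stabilizer G α →
      stabilizer G α ≤ normalizer (M : Set G) → ∀ δ, δ ≠ α → (∀ l ∈ M, l • δ = δ) →
      M ≤ bigKer G s α := by
    intro M hM hMle hMn δ hδ hMδ l hl
    exact ⟨hMle hl, fun σ hσ hσs => fixes_largest hprim hep hM hMle hMn (stab_ne hprim hH hδ)
      hMδ hσ (fun δ' => (hle_s γ₀ δ').trans' le_rfl |> fun _ => hσs ▸ hle_s δ δ') l hl⟩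
  have hK : bigKer G s α ≠ ⊥ := fun e => hL (le_bot_iff.mp (e ▸ hbig hL hle hn ω hω hfix))
  -- some point is moved by the kernel; take one in a largest such suborbit
  obtain ⟨σ, ⟨hσne, hσmoved⟩, hσmax⟩ := (Set.toFinite
      {σ : Ω | σ ≠ α ∧ ∃ k ∈ bigKer G s α, k • σ ≠ σ}).exists_maximalFor (sz G α) _ (by
    by_contra h
    refine hK (eq_bot_iff.mpr fun k hk => mem_bot.mpr (eq_of_smul_eq_smul (α := Ω) fun x => ?_))
    rw [one_smul]
    by_contra hx
    exact h ⟨x, fun e => hx (e ▸ hk.1), k, hk, hx⟩)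
  have hne0 := stab_ne hprim hH hγ₀ne
  have hfix0 : ∀ k ∈ bigKer G s α, k • γ₀ = γ₀ := fun k hk => hk.2 γ₀ hγ₀ne hγ₀
  have hback : ∀ k ∈ bigKer G s γ₀, k • α = α := fun k hk =>
    hk.2 α hγ₀ne.symm ((sz_symm α γ₀).symm.trans hγ₀)
  have hKK : bigKer G s γ₀ ≤ bigKer G s α := by
    -- the points of the suborbit of `σ` are fixed by the kernel at `γ₀`
    have hσfix : ∀ x ∈ orbit (stabilizer G α) σ, ∀ k ∈ bigKer G s γ₀, k • x = x := by
      intro x hx k hk
      obtain ⟨h0, hh0, rfl⟩ := mem_orbit_stab_iff.mp hx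
      have hxne : h0 • σ ≠ α := fun e =>
        hσne (MulAction.injective h0 (e.trans (mem_stabilizer_iff.mp hh0).symm))
      have hxmoved : ∃ k ∈ bigKer G s α, k • (h0 • σ) ≠ h0 • σ := by
        obtain ⟨k', hk', hk'σ⟩ := hσmoved
        refine ⟨h0 * k' * h0⁻¹, ?_, ?_⟩
        · have := (bigKer_smul (s := s) (α := α) h0).mpr hk'
          rwa [mem_stabilizer_iff.mp hh0] at this
        · rwa [mul_smul, mul_smul, inv_smul_smul, ne_eq, smul_left_cancel_iff]
      have hxsz : sz G α (h0 • σ) = sz G α σ := by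
        conv_lhs => rw [← mem_stabilizer_iff.mp hh0]
        exact sz_smul h0 α σ
      have hxγ : h0 • σ ≠ γ₀ := fun e => by
        obtain ⟨k', hk', hk'σ⟩ := hxmoved
        exact hk'σ (e ▸ hfix0 k' hk')
      -- transport the suborbit of `(γ₀, x)` to `α`
      obtain ⟨g, hg⟩ := exists_smul_eq G γ₀ α
      have hsub : orbit (stabilizer G α) (h0 • σ) ⊆ orbit (stabilizer G γ₀) (h0 • σ) := by
        rcases fix_or_transitive hep (hKle α) (hKn α) (h0 • σ) with h | h
        · obtain ⟨k', hk', hk'σ⟩ := hxmoved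
          exact absurd (h _ (mem_orbit_self _) k' hk') hk'σ
        · intro y hy
          obtain ⟨l, hl, e⟩ := h _ (mem_orbit_self _) y hy
          exact mem_orbit_stab_iff.mpr ⟨l, mem_stabilizer_iff.mpr (hfix0 l hl), e⟩
      by_contra hkx
      have hgσne : g • (h0 • σ) ≠ α := fun e => hxγ (MulAction.injective g (e.trans hg.symm))
      have hgmoved : ∃ k' ∈ bigKer G s α, k' • (g • h0 • σ) ≠ g • h0 • σ := by
        refine ⟨g * k * g⁻¹, ?_, ?_⟩
        · have := (bigKer_smul (s := s) (α := γ₀) g).mpr hk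
          rwa [hg] at this
        · rwa [mul_smul, mul_smul, inv_smul_smul, ne_eq, smul_left_cancel_iff]
      have hszg : sz G α (g • h0 • σ) = sz G γ₀ (h0 • σ) := by rw [← hg, sz_smul]
      have h1 : sz G γ₀ (h0 • σ) ≤ sz G α (h0 • σ) := by
        rw [hxsz, ← hszg]
        exact (le_total _ _).elim id fun h => hσmax (j := g • h0 • σ) ⟨hgσne, hgmoved⟩ h
      have heq := Set.eq_of_subset_of_ncard_le hsub h1 (Set.toFinite _)
      have hα' : stabilizer G α ≤ stabilizer G (orbit (stabilizer G α) (h0 • σ)) := fun g hg =>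
        mem_stabilizer_iff.mpr (smul_orbit (⟨g, hg⟩ : stabilizer G α) _)
      have hγ' : stabilizer G γ₀ ≤ stabilizer G (orbit (stabilizer G α) (h0 • σ)) := fun g hg => by
        rw [mem_stabilizer_iff, heq]
        exact smul_orbit (⟨g, hg⟩ : stabilizer G γ₀) _
      have hc := isCoatom_stab hprim α
      have htop : stabilizer G (orbit (stabilizer G α) (h0 • σ)) = ⊤ := by
        refine hc.2 _ (lt_of_le_of_ne hα' fun e => hne0 ?_)
        exact ((isCoatom_stab hprim γ₀).le_iff.mp (e ▸ hγ')).elim (fun h => absurd h hc.1) Eq.symm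
      obtain ⟨g', hg'⟩ := exists_smul_eq G (h0 • σ) α
      have hmem : α ∈ orbit (stabilizer G α) (h0 • σ) := by
        have hgS : g' ∈ stabilizer G (orbit (stabilizer G α) (h0 • σ)) := htop ▸ mem_top g'
        rw [mem_stabilizer_iff] at hgS
        exact hgS ▸ ⟨h0 • σ, mem_orbit_self _, hg'⟩
      obtain ⟨⟨t, ht⟩, e⟩ := hmem
      rw [mem_stabilizer_iff] at ht
      exact hxne (MulAction.injective t (e.trans ht.symm))
    -- so it lies in the kernel on that suborbit
    let M : Subgroup G := stabilizer G α ⊓ fixingSubgroup G (orbit (stabilizer G α) σ)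
    have hK0M : bigKer G s γ₀ ≤ M := fun k hk =>
      ⟨hback k hk, (mem_fixingSubgroup_iff _).mpr fun x hx => hσfix x hx k hk⟩
    have hMn : stabilizer G α ≤ normalizer (M : Set G) := by
      intro g hg
      rw [mem_normalizer_iff]
      have key : ∀ g ∈ stabilizer G α, ∀ m ∈ M, g * m * g⁻¹ ∈ M := fun g hg m hm => by
        refine ⟨(stabilizer G α).mul_mem ((stabilizer G α).mul_mem hg hm.1)
          ((stabilizer G α).inv_mem hg), (mem_fixingSubgroup_iff _).mpr fun x hx => ?_⟩
        have hx' : g⁻¹ • x ∈ orbit (stabilizer G α) σ := by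
          obtain ⟨h0, hh0, rfl⟩ := mem_orbit_stab_iff.mp hx
          exact mem_orbit_stab_iff.mpr ⟨g⁻¹ * h0, mul_mem (inv_mem hg) hh0, mul_smul _ _ _⟩
        rw [mul_smul, mul_smul, (mem_fixingSubgroup_iff _).mp hm.2 _ hx', smul_inv_smul]
      exact fun m => ⟨key g hg m, fun h => by simpa [mul_assoc] using key g⁻¹ (inv_mem hg) _ h⟩
    rcases eq_or_ne M ⊥ with hM | hM
    · exact le_trans (hK0M.trans hM.le) bot_le
    · exact hK0M.trans (hbig hM inf_le_left hMn σ hσne fun l hl =>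
        (mem_fixingSubgroup_iff _).mp hl.2 σ (mem_orbit_self σ))
  have hcard : Nat.card (bigKer G s γ₀) = Nat.card (bigKer G s α) := by
    obtain ⟨g, hg⟩ := exists_smul_eq G α γ₀
    refine (Nat.card_congr ((MulAut.conj g).toEquiv.subtypeEquiv fun k => ?_)).symm
    have := bigKer_smul (s := s) (α := α) (k := k) g
    rw [hg] at this
    exact this.symm
  have hKeq := eq_of_le_of_card_ge hKK hcard.ge
  exact hK (eq_bot_of_normalised hprim hne0 (hKle α) (hKn α) (hKeq ▸ hKn γ₀))

/-- A non-trivial normal subgroup of a point stabiliser is transitive on each of its suborbits. -/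
theorem transitive_of_normal (hprim : IsPreprimitive G Ω) (hep : EPrim G Ω) {α ω : Ω}
    {L : Subgroup G} (hL : L ≠ ⊥) (hle : L ≤ stabilizer G α)
    (hn : stabilizer G α ≤ normalizer (L : Set G)) {x : Ω}
    (hx : x ∈ orbit (stabilizer G α) ω) : ∃ l ∈ L, l • ω = x := by
  rcases fix_or_transitive hep hle hn ω with h | h
  · rcases eq_or_ne ω α with rfl | hω
    · obtain ⟨⟨t, ht⟩, rfl⟩ := hx
      exact ⟨1, one_mem _, (one_smul _ _).trans (mem_stabilizer_iff.mp ht).symm⟩
    · exact absurd (faithful_suborbit hprim hep hω hle hn (h ω (mem_orbit_self ω))) hL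
  · exact h ω (mem_orbit_self ω) x hx

end Cfsg.Agent.ExtremelyPrim
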