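import Cfsg.Agent.Fusion.ThompsonComplement
import Cfsg.Agent.Fusion.FixedPointFree

/-!
A non-abelian finite simple group has no group of automorphisms and antiautomorphisms containing
the inner ones in which the stabiliser of every non-identity element is maximal.
-/

set_option autoImplicit false

namespace Cfsg.Agent.ExtremelyPrim

open MulAction Subgroup Cfsg
open scoped Pointwise

universe u v

variable {T : Type u} [Group T] {H : Type v} [Group H] [MulAction H T]

theorem exists_mulEquiv (hauto : ∀ h : H, (∀ a b : T, h • (a * b) = (h • a) * (h • b)) ∨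
      (∀ a b : T, h • (a * b) = (h • b) * (h • a))) (h : H) :
    ∃ φ : T ≃* T, ∀ (U : Subgroup T) (a : T), φ a ∈ U ↔ h • a ∈ U := by
  rcases hauto h with hh | hh
  · exact ⟨MulEquiv.mk' (MulAction.toPerm h) hh, fun U a => Iff.rfl⟩
  · exact ⟨MulEquiv.mk' ((MulAction.toPerm h).trans (Equiv.inv T)) fun a b => by
      simp only [Equiv.trans_apply, MulAction.toPerm_apply, Equiv.inv_apply, hh, mul_inv_rev],
      fun U a => U.inv_mem_iff⟩

theorem smul_one_eq (hauto : ∀ h : H, (∀ a b : T, h • (a * b) = (h • a) * (h • b)) ∨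
      (∀ a b : T, h • (a * b) = (h • b) * (h • a))) (h : H) : h • (1 : T) = 1 := by
  rcases hauto h with hh | hh <;>
  · have := hh 1 1
    rw [one_mul] at this
    exact mul_eq_left.mp this.symm

theorem smul_commute (hauto : ∀ h : H, (∀ a b : T, h • (a * b) = (h • a) * (h • b)) ∨
      (∀ a b : T, h • (a * b) = (h • b) * (h • a))) (h : H) {a b : T} (hab : a * b = b * a) :
    (h • a) * (h • b) = (h • b) * (h • a) := by
  rcases hauto h with hh | hh
  · rw [← hh, ← hh, hab]
  · rw [← hh, ← hh, hab]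

theorem smul_pow_eq (hauto : ∀ h : H, (∀ a b : T, h • (a * b) = (h • a) * (h • b)) ∨
      (∀ a b : T, h • (a * b) = (h • b) * (h • a))) (h : H) (a : T) (n : ℕ) :
    h • (a ^ n) = (h • a) ^ n := by
  induction n with
  | zero => rw [pow_zero, pow_zero, smul_one_eq hauto]
  | succ n ih =>
    rcases hauto h with hh | hh
    · rw [pow_succ, hh, ih, pow_succ]
    · rw [pow_succ, hh, ih, pow_succ']

/-- The main lemma. -/
theorem false_of_class_maximal [Finite T] (hs : IsSimpleGroup T)
    (hnc : ¬ ∀ a b : T, a * b = b * a)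
    (hauto : ∀ h : H, (∀ a b : T, h • (a * b) = (h • a) * (h • b)) ∨
      (∀ a b : T, h • (a * b) = (h • b) * (h • a)))
    (hinn : ∀ t : T, ∃ h : H, ∀ a : T, h • a = t * a * t⁻¹)
    (hmax : ∀ x : T, x ≠ 1 → ∀ K : Subgroup H, stabilizer H x ≤ K →
      K = stabilizer H x ∨ K = ⊤) : False := by
  have hnil : Group.IsNilpotent T → False := fun h => hnc (IsSimpleGroup.comm_iff_isSolvable.mpr inferInstance)
  have hcent : ∀ x : T, x ≠ 1 → ∃ t : T, t * x * t⁻¹ ≠ x := by
    intro x hx
    by_contra! h
    have hz : center T = ⊥ := (hs.eq_bot_or_eq_top_of_normal (center T) inferInstance).resolve_right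
      fun e => hnc fun a b => (mem_center_iff.mp (e ▸ mem_top b) a)
    have : x ∈ center T := mem_center_iff.mpr fun g => mul_inv_eq_iff_eq_mul.mp (h g)
    rw [hz, mem_bot] at this
    exact hx this
  -- normalisers of invariant subgroups
  have hnorm : ∀ x : T, x ≠ 1 → ∀ U : Subgroup T, U ≠ ⊥ → U ≠ ⊤ →
      (∀ h ∈ stabilizer H x, ∀ a ∈ U, h • a ∈ U) →
      normalizer (U : Set T) ≤ centralizer {x} := by
    intro x hx U hU1 hU2 hinv t ht
    let K : Subgroup H := stabilizer H (U : Set T)
    have hK : ∀ h, h ∈ K ↔ ∀ a : T, h • a ∈ U ↔ a ∈ U := fun h => mem_stabilizer_set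
    have hle : stabilizer H x ≤ K := fun h hh => (hK h).mpr fun a =>
      ⟨fun ha => by simpa using hinv h⁻¹ (inv_mem hh) _ ha, hinv h hh a⟩
    rcases hmax x hx K hle with e | e
    · obtain ⟨h, hh⟩ := hinn t
      have hhK : h ∈ K := (hK h).mpr fun a => by
        rw [hh]
        exact ((mem_normalizer_iff.mp ht) a).symm
      rw [e, mem_stabilizer_iff, hh] at hhK
      exact mem_centralizer_singleton_iff.mpr (mul_inv_eq_iff_eq_mul.mp hhK)
    · refine absurd (hs.eq_bot_or_eq_top_of_normal U ⟨fun a ha g => ?_⟩) (by tauto)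
      obtain ⟨h, hh⟩ := hinn g
      rw [← hh]
      exact ((hK h).mp (e ▸ mem_top h) a).mpr ha
  have hpow : ∀ (w : T) (k : ℕ), w ^ k ≠ 1 → centralizer {w ^ k} ≤ centralizer {w} := by
    intro w k hk t ht
    have hw : w ≠ 1 := fun e => hk (by rw [e, one_pow])
    have hle : stabilizer H w ≤ stabilizer H (w ^ k) := fun h hh => by
      rw [mem_stabilizer_iff] at hh ⊢
      rw [smul_pow_eq hauto, hh]
    rcases hmax w hw _ hle with e | e
    · obtain ⟨h, hh⟩ := hinn t
      have hhk : h ∈ stabilizer H (w ^ k) := by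
        rw [mem_stabilizer_iff, hh]
        exact mul_inv_eq_iff_eq_mul.mpr (mem_centralizer_singleton_iff.mp ht)
      rw [e, mem_stabilizer_iff, hh] at hhk
      exact mem_centralizer_singleton_iff.mpr (mul_inv_eq_iff_eq_mul.mp hhk)
    · obtain ⟨g, hg⟩ := hcent _ hk
      obtain ⟨h, hh⟩ := hinn g
      have := e ▸ mem_top h
      rw [mem_stabilizer_iff, hh] at this
      exact absurd this hg
  -- an odd prime divisor
  obtain ⟨p, hp, hpodd, hpd⟩ : ∃ p : ℕ, p.Prime ∧ p ≠ 2 ∧ p ∣ Nat.card T := by
    by_contra! h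
    have : Fact (Nat.Prime 2) := ⟨Nat.prime_two⟩
    refine hnil (IsPGroup.of_card (p := 2) (n := (Nat.card T).primeFactorsList.length)
      (Nat.eq_prime_pow_of_unique_prime_dvd Nat.card_pos.ne' fun {q} hq hqd => ?_)).isNilpotent
    by_contra hq2
    exact h q hq hq2 hqd
  have := Fact.mk hp
  obtain ⟨P⟩ := (inferInstance : Nonempty (Sylow p T))
  have hPb : (P : Subgroup T) ≠ ⊥ := P.ne_bot_of_dvd_card hpd
  have : Nontrivial P := (nontrivial_iff_ne_bot _).mpr hPb
  obtain ⟨x, hxP, hxc, hxo⟩ : ∃ x : T, x ∈ (P : Subgroup T) ∧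
      x ∈ centralizer ((P : Subgroup T) : Set T) ∧ orderOf x = p := by
    have hzc : Nontrivial (center P) := P.2.center_nontrivial
    have hd : p ∣ Nat.card (center P) :=
      (P.2.to_subgroup (center P)).nontrivial_iff_card.mp hzc |> fun ⟨n, hn, hc⟩ =>
        hc ▸ dvd_pow_self p hn.ne'
    obtain ⟨z, hz⟩ := exists_prime_orderOf_dvd_card' (G := center P) p hd
    refine ⟨((z : P) : T), (z : P).2, fun g hg => ?_, ?_⟩
    · exact congrArg Subtype.val (mem_center_iff.mp z.2 ⟨g, hg⟩)
    · rw [Subgroup.orderOf_coe, Subgroup.orderOf_coe, hz]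
  have hx1 : x ≠ 1 := fun e => by rw [e, orderOf_one] at hxo; exact hp.one_lt.ne hxo
  set C : Subgroup T := centralizer {x} with hC
  have hPC : (P : Subgroup T) ≤ C := fun a ha => mem_centralizer_singleton_iff.mpr (hxc a ha)
  have hCtop : C ≠ ⊤ := fun e => by
    obtain ⟨t, ht⟩ := hcent x hx1
    exact ht (mul_inv_eq_iff_eq_mul.mpr (mem_centralizer_singleton_iff.mp
      (show t ∈ centralizer {x} from hC ▸ e ▸ mem_top t)))
  -- elements of order prime to `p` are central in `C`
  have hcentral : ∀ z ∈ C, (orderOf z).Coprime p → ∀ t ∈ C, t * z = z * t := by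
    intro z hz hzo t ht
    have hzx : Commute z x := mem_centralizer_singleton_iff.mp hz
    have hk : (x * z) ^ orderOf z = x ^ orderOf z := by
      rw [hzx.symm.mul_pow, pow_orderOf_eq_one, mul_one]
    have hk1 : (x * z) ^ orderOf z ≠ 1 := by
      rw [hk]
      intro e
      have h1 := hxo ▸ orderOf_dvd_of_pow_eq_one e
      exact hp.one_lt.ne' ((Nat.gcd_eq_right h1).symm.trans hzo)
    have htk : t ∈ centralizer {(x * z) ^ orderOf z} := by
      rw [hk, mem_centralizer_singleton_iff]
      exact (Commute.pow_right (mem_centralizer_singleton_iff.mp ht) _).eq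
    have h2 : Commute t (x * z) := mem_centralizer_singleton_iff.mp (hpow _ _ hk1 htk)
    have h3 : Commute t x := mem_centralizer_singleton_iff.mp ht
    have := (h3.inv_right).mul_right h2
    rwa [inv_mul_cancel_left] at this
  have hCnil : Group.IsNilpotent C := by
    refine Group.of_quotient_center_nilpotent (IsPGroup.isNilpotent (p := p) fun g => ?_)
    obtain ⟨g, rfl⟩ := QuotientGroup.mk_surjective g
    obtain ⟨a, m, hm, hom⟩ := Nat.exists_eq_pow_mul_and_not_dvd (orderOf_pos g).ne' p hp.one_lt.ne'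
    refine ⟨a, ?_⟩
    rw [← QuotientGroup.mk_pow, QuotientGroup.eq_one_iff, mem_center_iff]
    intro y
    refine Subtype.ext (hcentral _ (g ^ p ^ a).2 ?_ _ y.2)
    rw [Subgroup.orderOf_coe, orderOf_pow' _ (pow_pos hp.pos a).ne', hom,
      Nat.gcd_mul_right_left, Nat.mul_div_cancel_left _ (pow_pos hp.pos a)]
    exact (hp.coprime_iff_not_dvd.mpr hm).symm
  have hCP : C ≤ normalizer ((P : Subgroup T) : Set T) := by
    have := Sylow.normal_of_normalizerCondition Group.normalizerCondition_of_isNilpotent (P.subtype hPC)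
    exact normal_subgroupOf_iff_le_normalizer hPC |>.mp this
  -- the Thompson subgroup of `P` is invariant under the stabiliser of `x`
  set J := thompsonSubgroupOf p (P : Subgroup T) with hJ
  have hJle : J ≤ P := map_subtype_le _
  have hJinv : ∀ h ∈ stabilizer H x, ∀ a ∈ J, h • a ∈ J := by
    intro h hh a ha
    obtain ⟨φ, hφ⟩ := exists_mulEquiv hauto h
    have hCinv : ∀ b ∈ C, h • b ∈ C := fun b hb => by
      have := smul_commute hauto h (mem_centralizer_singleton_iff.mp hb)
      rw [mem_stabilizer_iff.mp hh] at this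
      exact mem_centralizer_singleton_iff.mpr this
    have hle : (P : Subgroup T).map φ.toMonoidHom ≤ normalizer ((P : Subgroup T) : Set T) := by
      rintro _ ⟨b, hb, rfl⟩
      exact hCP ((hφ C b).mpr (hCinv b (hPC hb)))
    have hsup : IsPGroup p ((P : Subgroup T).map φ.toMonoidHom ⊔ P : Subgroup T) :=
      IsPGroup.to_sup_of_normal_right' (P.2.map φ.toMonoidHom) P.2 hle
    have hPmap : (P : Subgroup T).map φ.toMonoidHom = P := by
      refine eq_of_le_of_card_ge (le_sup_left.trans (P.is_maximal' hsup le_sup_right).le) ?_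
      exact (card_map_of_injective φ.injective).ge
    have hJmap : J.map φ.toMonoidHom = J := by
      refine (Thompson.thompsonOf_map_of_injective φ.injective (P : Subgroup T)).trans ?_
      rw [hJ]
      exact congrArg (thompsonSubgroupOf p) hPmap
    exact (hφ J a).mp (hJmap.le ⟨a, ha, rfl⟩)
  have hJb : J ≠ ⊥ := Fusion.thompsonSubgroupOf_ne_bot P.2 hPb
  have hJt : J ≠ ⊤ := fun e => hCtop (top_le_iff.mp (e ▸ hJle.trans hPC))
  have hCc : HasNormalPComplement p C := Fusion.hasNormalPComplement_of_isNilpotent hCnil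
  obtain ⟨P', K, hKn, hK⟩ := Fusion.hasNormalPComplement_of_thompson hpodd P
    (Fusion.hasNormalPComplement_of_le (hnorm x hx1 J hJb hJt hJinv) hCc)
    (Fusion.hasNormalPComplement_of_le
      (centralizer_le (Set.singleton_subset_iff.mpr ⟨hxP, hxc⟩)) hCc)
  rcases hs.eq_bot_or_eq_top_of_normal K hKn with e | e
  · rw [e, isComplement'_bot_left] at hK
    exact hnil ((hK ▸ P'.2 : IsPGroup p (⊤ : Subgroup T)).of_equiv topEquiv).isNilpotent
  · rw [e, isComplement'_top_left] at hK
    exact P'.ne_bot_of_dvd_card hpd hK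

end Cfsg.Agent.ExtremelyPrim
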