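import Mathlib

/-!
An irreducible cyclic normal subgroup of a linear group over `GF(p)`: the group modulo the
centraliser of the cyclic subgroup embeds in the Galois group of `GF(p^d)`.
-/

set_option autoImplicit false

namespace Cfsg.Agent.ExtremelyPrim

theorem semilinear {V H : Type*} [AddCommGroup V] [Finite V] [Group H] [Finite H]
    (p : ℕ) [Fact p.Prime] [Module (ZMod p) V] {d : ℕ} (hd : Nat.card V = p ^ d) (hd0 : 0 < d)
    (ρ : H → V →+ V) (h1 : ∀ v, ρ 1 v = v) (hm : ∀ g h v, ρ (g * h) v = ρ g (ρ h v))
    (L : Subgroup H) (m : H) (hL : L = Subgroup.zpowers m) [L.Normal]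
    (hinj : ∀ a b, (∀ v, ρ a v = ρ b v) → a = b)
    (hirr : ∀ W : AddSubgroup V, (∀ w ∈ W, ρ m w ∈ W) → W = ⊥ ∨ W = ⊤)
    (hcen : ∀ h, h * m = m * h → h ∈ L) :
    (∀ i, 0 < i → i < d → m ^ (p ^ i) ≠ m) ∧
      ∃ f : H →* Multiplicative (ZMod d), f.ker = L := by
  classical
  let E := Module.End (ZMod p) V
  let F : H → E := fun h => (ρ h).toZModLinearMap p
  have hF : ∀ h v, F h v = ρ h v := fun _ _ => rfl
  let f : H →* E := ⟨⟨F, LinearMap.ext fun v => by rw [hF, h1, Module.End.one_apply]⟩,
    fun g h => LinearMap.ext fun v => by rw [hF, hm]; rfl⟩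
  have hf : ∀ h v, f h v = ρ h v := fun _ _ => rfl
  have hfi : Function.Injective f := fun a b e => hinj a b fun v => by
    rw [← hf, ← hf, e]
  have : Finite E := Finite.of_injective (fun g : E => (g : V → V)) DFunLike.coe_injective
  let R : Subalgebra (ZMod p) E := Algebra.adjoin (ZMod p) {f m}
  have hgen : f m ∈ R := Algebra.self_mem_adjoin_singleton _ _
  have hcomm1 : ∀ r ∈ R, r * f m = f m * r := by
    intro r hr
    induction hr using Algebra.adjoin_induction with
    | mem x hx => rw [Set.mem_singleton_iff.mp hx]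
    | algebraMap c => exact Algebra.commutes c (f m)
    | add x y _ _ hx hy => rw [add_mul, mul_add, hx, hy]
    | mul x y _ _ hx hy => rw [mul_assoc, hy, ← mul_assoc, hx, mul_assoc]
  have hcomm : ∀ r ∈ R, ∀ s ∈ R, r * s = s * r := by
    intro r hr s hs
    induction hs using Algebra.adjoin_induction with
    | mem x hx => rw [Set.mem_singleton_iff.mp hx]; exact hcomm1 r hr
    | algebraMap c => exact (Algebra.commutes c r).symm
    | add x y _ _ hx hy => rw [mul_add, add_mul, hx, hy]
    | mul x y _ _ hx hy => rw [← mul_assoc, hx, mul_assoc, hy, mul_assoc]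
  -- non-zero elements of `R` are injective
  have hkey : ∀ r : R, ∀ v : V, v ≠ 0 → (r : E) v = 0 → r = 0 := by
    intro r v hv hrv
    let W : AddSubgroup V := (r : E).toAddMonoidHom.ker
    have hW : ∀ w, w ∈ W ↔ (r : E) w = 0 := fun w => Iff.rfl
    rcases hirr W (fun w hw => by
      rw [hW] at hw ⊢
      rw [← hf, ← Module.End.mul_apply, hcomm1 r r.2, Module.End.mul_apply, hw, map_zero]) with e | e
    · exact absurd (AddSubgroup.mem_bot.mp (e ▸ (hW v).mpr hrv)) hv
    · refine Subtype.ext (LinearMap.ext fun w => ?_)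
      exact (hW w).mp (e ▸ AddSubgroup.mem_top w)
  have hp : p.Prime := Fact.out
  have hVnt : Nontrivial V := by
    rw [← Finite.one_lt_card_iff_nontrivial, hd]
    exact Nat.one_lt_pow hd0.ne' hp.one_lt
  obtain ⟨v0, hv0⟩ := exists_ne (0 : V)
  let _ : CommRing R := { (inferInstance : Ring R) with
    mul_comm := fun a b => Subtype.ext (hcomm a a.2 b b.2) }
  have : Nontrivial R := ⟨0, 1, fun e => hv0 (by
    have := LinearMap.congr_fun (congrArg Subtype.val e) v0
    simpa using this.symm)⟩
  have : NoZeroDivisors R := ⟨fun {a b} hab => by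
    by_contra! hne
    refine hne.2 (hkey b v0 hv0 ?_)
    by_contra hb
    exact hne.1 (hkey a _ hb (LinearMap.congr_fun (congrArg Subtype.val hab) v0))⟩
  have : IsDomain R := NoZeroDivisors.to_isDomain R
  let _ : Fintype R := Fintype.ofFinite R
  let _ : Field R := Fintype.fieldOfDomain R
  have hcard : Nat.card R = p ^ d := by
    rw [← hd]
    refine Nat.card_eq_of_bijective (fun r : R => (r : E) v0) ⟨fun a b e => ?_, fun v => ?_⟩
    · refine sub_eq_zero.mp (hkey (a - b) v0 hv0 ?_)
      change ((a : E) - (b : E)) v0 = 0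
      rw [LinearMap.sub_apply]
      exact sub_eq_zero.mpr e
    · let ev : R →+ V :=
        { toFun := fun r => (r : E) v0
          map_zero' := rfl
          map_add' := fun _ _ => rfl }
      rcases hirr ev.range (fun w hw => by
        obtain ⟨r, rfl⟩ := hw
        exact ⟨⟨f m, hgen⟩ * r, rfl⟩) with e | e
      · exact absurd (AddSubgroup.mem_bot.mp (e ▸ (⟨1, rfl⟩ : v0 ∈ ev.range))) hv0
      · exact (e ▸ AddSubgroup.mem_top v : v ∈ ev.range)
  refine ⟨fun i hi hid hmi => ?_, ?_⟩
  · -- the `i`-th power of Frobenius would fix the whole field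
    have : CharP R p := charP_of_injective_algebraMap (algebraMap (ZMod p) R).injective p
    have hfix : ∀ r : R, r ^ (p ^ i) = r := by
      rintro ⟨r, hr⟩
      refine Subtype.ext ?_
      induction hr using Algebra.adjoin_induction with
      | mem x hx =>
        obtain rfl := Set.mem_singleton_iff.mp hx
        rw [SubmonoidClass.coe_pow]
        exact (map_pow f m _).symm.trans (congrArg f hmi)
      | algebraMap c =>
        change ((algebraMap (ZMod p) R c) ^ (p ^ i) : R).val = _
        rw [← map_pow, ZMod.pow_card_pow]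
        rfl
      | add x y hx hy ihx ihy =>
        have h := add_pow_char_pow (⟨x, hx⟩ : R) ⟨y, hy⟩ (p := p) (n := i)
        exact (congrArg Subtype.val h).trans (congrArg₂ (· + ·) ihx ihy)
      | mul x y hx hy ihx ihy =>
        exact (congrArg Subtype.val (mul_pow (⟨x, hx⟩ : R) ⟨y, hy⟩ (p ^ i))).trans
          (congrArg₂ (· * ·) ihx ihy)
    obtain ⟨g, hg⟩ := IsCyclic.exists_generator (α := Rˣ)
    have ho : orderOf g = p ^ d - 1 := by
      rw [orderOf_eq_card_of_forall_mem_zpowers hg, Nat.card_units, hcard]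
    have hlt : p ^ i < p ^ d := Nat.pow_lt_pow_right hp.one_lt hid
    have h1i : 1 < p ^ i := Nat.one_lt_pow hi.ne' hp.one_lt
    have hg1 : g ^ (p ^ i - 1) = 1 := by
      have h := hfix (g : R)
      rw [← Units.val_pow_eq_pow_val, Units.val_inj] at h
      rw [← Nat.sub_add_cancel h1i.le, pow_succ] at h
      exact mul_eq_right.mp h
    have := Nat.le_of_dvd (by omega) (ho ▸ orderOf_dvd_of_pow_eq_one hg1)
    omega
  · have hLc : ∀ l ∈ L, ∀ r ∈ R, f l * r = r * f l := by
      intro l hl r hr
      rw [hL] at hl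
      obtain ⟨k, rfl⟩ := mem_powers_iff_mem_zpowers.mpr hl
      simp only
      rw [map_pow]
      exact (Commute.pow_left (hcomm1 r hr).symm k)
    have hmap : ∀ h, ∀ r ∈ R, f h * r * f h⁻¹ ∈ R := by
      intro h r hr
      induction hr using Algebra.adjoin_induction with
      | mem x hx =>
        rw [Set.mem_singleton_iff.mp hx, ← map_mul, ← map_mul]
        have hmem : h * m * h⁻¹ ∈ L :=
          Subgroup.Normal.conj_mem ‹L.Normal› m (hL ▸ Subgroup.mem_zpowers m) h
        rw [hL] at hmem
        obtain ⟨k, hk⟩ := mem_powers_iff_mem_zpowers.mpr hmem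
        simp only at hk
        rw [← hk, map_pow]
        exact pow_mem hgen k
      | algebraMap c =>
        rw [← Algebra.commutes, mul_assoc, ← map_mul, mul_inv_cancel, map_one, mul_one]
        exact algebraMap_mem _ c
      | add x y _ _ hx hy =>
        rw [mul_add, add_mul]
        exact add_mem hx hy
      | mul x y _ _ hx hy =>
        have e : f h * (x * y) * f h⁻¹ = (f h * x * f h⁻¹) * (f h * y * f h⁻¹) := by
          rw [show (f h * x * f h⁻¹) * (f h * y * f h⁻¹)
              = f h * x * (f h⁻¹ * f h) * (y * f h⁻¹) by simp only [mul_assoc],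
            ← map_mul, inv_mul_cancel, map_one, mul_one]
          simp only [mul_assoc]
        rw [e]
        exact mul_mem hx hy
    let c : H → R → R := fun h r => ⟨f h * r * f h⁻¹, hmap h r r.2⟩
    have hc2 : ∀ a b r, c (a * b) r = c a (c b r) := fun a b r => Subtype.ext (by
      simp only [c, map_mul, mul_inv_rev, mul_assoc])
    have hc1 : ∀ r, c 1 r = r := fun r => Subtype.ext (by simp [c])
    let σ : H → (R ≃ₐ[ZMod p] R) := fun h =>
      { toFun := c h
        invFun := c h⁻¹
        left_inv := fun r => by rw [← hc2, inv_mul_cancel, hc1]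
        right_inv := fun r => by rw [← hc2, mul_inv_cancel, hc1]
        map_mul' := fun r s => Subtype.ext (by
          simp only [c, Subalgebra.coe_mul]
          rw [show f h * (r : E) * f h⁻¹ * (f h * (s : E) * f h⁻¹)
              = f h * (r : E) * (f h⁻¹ * f h) * ((s : E) * f h⁻¹) by simp only [mul_assoc],
            ← map_mul, inv_mul_cancel, map_one, mul_one]
          simp only [mul_assoc])
        map_add' := fun r s => Subtype.ext (by
          simp only [c, Subalgebra.coe_add, mul_add, add_mul])
        commutes' := fun a => Subtype.ext (by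
          simp only [c, Subalgebra.coe_algebraMap]
          rw [← Algebra.commutes, mul_assoc, ← map_mul, mul_inv_cancel, map_one, mul_one]) }
    let Φ : H →* (R ≃ₐ[ZMod p] R) :=
      ⟨⟨σ, AlgEquiv.ext hc1⟩, fun a b => AlgEquiv.ext (hc2 a b)⟩
    have hker : Φ.ker = L := by
      ext h
      rw [MonoidHom.mem_ker]
      constructor
      · intro e
        refine hcen h (mul_inv_eq_iff_eq_mul.mp (hfi ?_))
        rw [map_mul, map_mul]
        exact congrArg Subtype.val (AlgEquiv.congr_fun e (⟨f m, hgen⟩ : R))
      · intro hh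
        refine AlgEquiv.ext fun r => Subtype.ext ?_
        show f h * (r : E) * f h⁻¹ = (r : E)
        rw [hLc h hh r r.2, mul_assoc, ← map_mul, mul_inv_cancel, map_one, mul_one]
    have : Module.Finite (ZMod p) R := Module.Finite.of_finite
    have hcardA : Nat.card (R ≃ₐ[ZMod p] R) = d := by
      rw [IsGalois.card_aut_eq_finrank]
      have := Module.natCard_eq_pow_finrank (K := ZMod p) (V := R)
      rw [hcard, Nat.card_zmod] at this
      exact (Nat.pow_right_injective hp.two_le this).symm
    let e := (zmodCyclicMulEquiv (inferInstance : IsCyclic (R ≃ₐ[ZMod p] R))).symm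
    rw [hcardA] at e
    refine ⟨e.toMonoidHom.comp Φ, ?_⟩
    rw [← hker]
    ext h
    simp [MonoidHom.mem_ker]

end Cfsg.Agent.ExtremelyPrim
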