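import Cfsg.Agent.ExtremelyPrim.Stab
import Cfsg.Agent.ExtremelyPrim.Factor
import Cfsg.Agent.ExtremelyPrim.ClassMax

/-!
An extremely primitive group has no regular non-abelian simple normal subgroup with a non-trivial
centraliser, and its non-abelian minimal normal subgroups are simple.
-/

set_option autoImplicit false

namespace Cfsg.Agent.ExtremelyPrim

open MulAction Subgroup
open scoped Pointwise

variable {G : Type*} [Group G] [Finite G] {Ω : Type*} [Fintype Ω] [MulAction G Ω]
  [FaithfulSMul G Ω]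

theorem eq_of_forall_fix [Nontrivial Ω] (hprim : IsPreprimitive G Ω) {α : Ω}
    (hH : stabilizer G α ≠ ⊥) {y : Ω} (hy : ∀ h ∈ stabilizer G α, h • y = y) : y = α := by
  by_contra hne
  have hle : stabilizer G α ≤ stabilizer G y := fun h hh => mem_stabilizer_iff.mpr (hy h hh)
  rcases (isCoatom_stab hprim α).le_iff.mp hle with e | e
  · exact (isCoatom_stab hprim y).1 e
  · exact stab_ne hprim hH hne e

/-- The stabiliser in `G_α` of another point is maximal in `G_α`. -/
theorem isCoatom_stab_stab [Nontrivial Ω] (hprim : IsPreprimitive G Ω) (hep : EPrim G Ω) {α ω : Ω}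
    (hH : stabilizer G α ≠ ⊥) (hω : ω ≠ α) :
    IsCoatom (stabilizer (stabilizer G α) ω) := by
  have := hep α ω
  obtain ⟨h, hh, hne⟩ : ∃ h ∈ stabilizer G α, h • ω ≠ ω := by
    by_contra! hfix
    exact hω (eq_of_forall_fix hprim hH hfix)
  have : Nontrivial (orbit (stabilizer G α) ω) :=
    ⟨⟨⟨h • ω, mem_orbit_stab_iff.mpr ⟨h, hh, rfl⟩⟩, ⟨ω, mem_orbit_self ω⟩,
      fun e => hne (congrArg Subtype.val e)⟩⟩
  have hc := IsPreprimitive.isCoatom_stabilizer_of_isPreprimitive (stabilizer G α)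
    (⟨ω, mem_orbit_self ω⟩ : orbit (stabilizer G α) ω)
  have e : stabilizer (stabilizer G α) (⟨ω, mem_orbit_self ω⟩ : orbit (stabilizer G α) ω)
      = stabilizer (stabilizer G α) ω := by
    ext g
    exact Subtype.ext_iff
  rwa [e] at hc

/-- A simple regular subgroup on which `G_α` induces automorphisms and antiautomorphisms, among
them the inner ones, is impossible. -/
theorem false_of_regular_simple [Nontrivial Ω] (hprim : IsPreprimitive G Ω) (hep : EPrim G Ω)
    {α : Ω} (hH : stabilizer G α ≠ ⊥) (T : Subgroup G) (hs : IsSimpleGroup T)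
    (hnc : ¬ ∀ a b : T, a * b = b * a)
    (hreg : ∀ x : Ω, ∃ t ∈ T, t • α = x) (hfree : ∀ t ∈ T, t • α = α → t = 1)
    (hinn : ∀ t ∈ T, ∃ h ∈ stabilizer G α, ∀ x ∈ T, h • x • α = (t * x * t⁻¹) • α)
    (hauto : ∀ h ∈ stabilizer G α,
      (∀ a ∈ T, ∀ b ∈ T, ∀ a' ∈ T, ∀ b' ∈ T, h • a • α = a' • α → h • b • α = b' • α →
        h • (a * b) • α = (a' * b') • α) ∨
      (∀ a ∈ T, ∀ b ∈ T, ∀ a' ∈ T, ∀ b' ∈ T, h • a • α = a' • α → h • b • α = b' • α →
        h • (a * b) • α = (b' * a') • α)) : False := by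
  classical
  have hbij : Function.Bijective (fun t : T => (t : G) • α) := by
    refine ⟨fun a b e => Subtype.ext ?_, fun x => ?_⟩
    · have e' : (a : G) • α = (b : G) • α := e
      have := hfree _ (mul_mem (inv_mem b.2) a.2) (by rw [mul_smul, e', inv_smul_smul])
      exact (inv_mul_eq_one.mp this).symm
    · obtain ⟨t, ht, e⟩ := hreg x
      exact ⟨⟨t, ht⟩, e⟩
  let e : T ≃ Ω := Equiv.ofBijective _ hbij
  letI : MulAction (stabilizer G α) T := e.mulAction (stabilizer G α)
  have hsm : ∀ (h : stabilizer G α) (a : T), ((h • a : T) : G) • α = (h : G) • (a : G) • α :=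
    fun h a => e.apply_symm_apply ((h : G) • (a : G) • α)
  have hinj : ∀ a b : T, (a : G) • α = (b : G) • α → a = b := fun a b h => hbij.1 h
  refine false_of_class_maximal (T := T) (H := stabilizer G α) hs hnc (fun h => ?_) (fun t => ?_)
    (fun x hx K hK => ?_)
  · rcases hauto h h.2 with hh | hh
    · refine Or.inl fun a b => hinj _ _ ?_
      rw [hsm, Subgroup.coe_mul, Subgroup.coe_mul]
      exact hh a a.2 b b.2 _ (h • a).2 _ (h • b).2 (hsm h a).symm (hsm h b).symm
    · refine Or.inr fun a b => hinj _ _ ?_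
      rw [hsm, Subgroup.coe_mul, Subgroup.coe_mul]
      exact hh a a.2 b b.2 _ (h • a).2 _ (h • b).2 (hsm h a).symm (hsm h b).symm
  · obtain ⟨h, hh, hh'⟩ := hinn t t.2
    refine ⟨⟨h, hh⟩, fun a => hinj _ _ ?_⟩
    rw [hsm]
    exact hh' a a.2
  · have hxα : (x : G) • α ≠ α := fun h => hx (Subtype.ext (hfree _ x.2 h))
    have hc := isCoatom_stab_stab hprim hep hH hxα
    have he : stabilizer (stabilizer G α) x = stabilizer (stabilizer G α) ((x : G) • α) := by
      ext h
      rw [mem_stabilizer_iff, mem_stabilizer_iff]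
      exact ⟨fun h' => (hsm h x).symm.trans (by rw [h']), fun h' => hinj _ _ ((hsm h x).trans h')⟩
    rw [he] at hK ⊢
    exact (hc.le_iff.mp hK).symm

omit [Fintype Ω] [FaithfulSMul G Ω] [Finite G] in
theorem noncommProd_congr_set {s t : Multiset G} (hs ht) (h : s = t) :
    s.noncommProd hs = t.noncommProd ht := by
  subst h
  rfl

/-- A regular non-abelian minimal normal subgroup is simple. -/
theorem false_of_regular_nonsimple [Nontrivial Ω] (hprim : IsPreprimitive G Ω) (hep : EPrim G Ω)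
    {α : Ω} (hH : stabilizer G α ≠ ⊥) (N : Subgroup G) [N.Normal]
    (hfree : N ⊓ stabilizer G α = ⊥) (T : Subgroup G) (hTN : T ≤ N) (hTs : IsSimpleGroup T)
    (hTna : ¬ ∀ a b : T, a * b = b * a)
    (hcomm : ∀ g h, cj g T ≠ cj h T → ∀ a ∈ cj g T, ∀ b ∈ cj h T, a * b = b * a)
    (hdisj : ∀ g, cj g T ≠ T → T ⊓ cj g T = ⊥)
    (hmoved : ∃ h ∈ stabilizer G α, cj h T ≠ T) : False := by
  classical
  set H := stabilizer G α with hHdef
  have hconj : ∀ h ∈ H, ∀ x : G, h • x • α = (h * x * h⁻¹) • α := fun h hh x => by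
    rw [mul_smul, mul_smul, inv_smul_eq_iff.mpr (mem_stabilizer_iff.mp hh).symm]
  have hinj : ∀ a ∈ N, ∀ b ∈ N, a • α = b • α → a = b := by
    intro a ha b hb e
    have : b⁻¹ * a ∈ N ⊓ stabilizer G α := ⟨N.mul_mem (N.inv_mem hb) ha,
      mem_stabilizer_iff.mpr (by rw [mul_smul, e, inv_smul_smul])⟩
    rw [hfree, mem_bot, inv_mul_eq_one] at this
    exact this.symm
  -- the normaliser of `T` in `H` centralises `T`
  have hcent : ∀ h ∈ H, cj h T = T → ∀ x ∈ T, h * x * h⁻¹ = x := by
    intro h hh hhT x hx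
    rcases eq_or_ne x 1 with rfl | hx1
    · group
    have hxα : x • α ≠ α := fun e =>
      hx1 (hinj x (hTN hx) 1 N.one_mem (e.trans (one_smul G α).symm))
    have hc := isCoatom_stab_stab hprim hep hH hxα
    let M : Subgroup H :=
      { carrier := {k | cj (k : G) T = T}
        one_mem' := cj_one T
        mul_mem' := fun {a b} ha hb => by
          show cj ((a : G) * (b : G)) T = T
          rw [← cj_cj, hb, ha]
        inv_mem' := fun {a} ha => by
          show cj (a : G)⁻¹ T = T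
          have ha' : cj (a : G) T = T := ha
          conv_lhs => rw [← ha', cj_cj, inv_mul_cancel, cj_one] }
    have hle : stabilizer H (x • α) ≤ M := by
      intro k hk
      have hk' : (k : G) • x • α = x • α := hk
      have hfix : (k : G) * x * (k : G)⁻¹ = x := hinj _ (‹N.Normal›.conj_mem x (hTN hx) _) x (hTN hx)
        (by rw [← hconj k k.2 x, hk'])
      by_contra hne
      have := hdisj k hne
      have hmem : x ∈ T ⊓ cj (k : G) T := ⟨hx, hfix ▸ conj_mem_cj hx⟩
      rw [this, mem_bot] at hmem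
      exact hx1 hmem
    obtain ⟨h0, hh0, hh0T⟩ := hmoved
    rcases hc.le_iff.mp hle with e | e
    · exact absurd (show (⟨h0, hh0⟩ : H) ∈ M from e ▸ mem_top _) hh0T
    · have hhM : (⟨h, hh⟩ : H) ∈ M := hhT
      rw [e] at hhM
      have hk' : h • x • α = x • α := hhM
      exact hinj _ (‹N.Normal›.conj_mem x (hTN hx) _) x (hTN hx) (by rw [← hconj h hh x, hk'])
  have : Nontrivial T := hTs.toNontrivial
  obtain ⟨⟨x, hx⟩, hx1⟩ := exists_ne (1 : T)
  let S : Finset G := (Set.toFinite (Set.range fun h : H => (h : G) * x * (h : G)⁻¹)).toFinset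
  have hS : ∀ a, a ∈ S ↔ ∃ h ∈ H, h * x * h⁻¹ = a := fun a => by simp [S]
  have hScomm : ∀ a ∈ S, ∀ b ∈ S, a ≠ b → a * b = b * a := by
    intro a ha b hb hne
    obtain ⟨h, hh, rfl⟩ := (hS a).mp ha
    obtain ⟨k, hk, rfl⟩ := (hS b).mp hb
    refine hcomm h k (fun e => hne ?_) _ (conj_mem_cj hx) _ (conj_mem_cj hx)
    have h1 := hcent (k⁻¹ * h) (mul_mem (inv_mem hk) hh)
      (by rw [← cj_cj, e, cj_cj, inv_mul_cancel, cj_one]) x hx
    calc h * x * h⁻¹ = k * (k⁻¹ * h * x * (k⁻¹ * h)⁻¹) * k⁻¹ := by group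
      _ = k * x * k⁻¹ := by rw [h1]
  have comm : { z | z ∈ S.1 }.Pairwise Commute := fun a ha b hb hne => hScomm a ha b hb hne
  set y := S.1.noncommProd comm with hy
  have hyN : y ∈ N := Multiset.noncommProd_induction _ _ (· ∈ N) (fun _ _ => N.mul_mem) N.one_mem
    fun a ha => by
      obtain ⟨h, hh, rfl⟩ := (hS a).mp ha
      exact ‹N.Normal›.conj_mem x (hTN hx) h
  have hfix : ∀ k ∈ H, k * y * k⁻¹ = y := by
    intro k hk
    show (MulAut.conj k).toMonoidHom y = y
    rw [hy, Multiset.map_noncommProd]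
    refine noncommProd_congr_set _ _ ?_
    have hmap : S.map ⟨(MulAut.conj k).toMonoidHom, (MulAut.conj k).injective⟩ = S := by
      refine Finset.eq_of_subset_of_card_le (fun z hz => ?_) (Finset.card_map _).ge
      obtain ⟨a, ha, rfl⟩ := Finset.mem_map.mp hz
      obtain ⟨h, hh, rfl⟩ := (hS a).mp ha
      exact (hS _).mpr ⟨k * h, mul_mem hk hh, by simp [mul_assoc]⟩
    conv_rhs => rw [← hmap, Finset.map_val]
    rfl
  have hy1 : y = 1 := by
    refine hinj y hyN 1 N.one_mem ?_
    rw [one_smul]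
    refine eq_of_forall_fix hprim hH fun k hk => ?_
    rw [hconj k hk, hfix k hk]
  have hxS : x ∈ S.1 := (hS x).mpr ⟨1, one_mem _, by group⟩
  have hrest : (S.1.erase x).noncommProd
      (fun a ha b hb => comm (Multiset.mem_of_mem_erase ha) (Multiset.mem_of_mem_erase hb))
      ∈ centralizer (T : Set G) := by
    refine Multiset.noncommProd_induction _ _ (· ∈ centralizer (T : Set G))
      (fun _ _ => Subgroup.mul_mem _) (Subgroup.one_mem _) fun a ha => ?_
    obtain ⟨hne, haS⟩ := (Multiset.Nodup.mem_erase_iff S.2).mp ha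
    obtain ⟨h, hh, rfl⟩ := (hS a).mp haS
    intro t ht
    refine (hcomm h 1 (fun e => hne ?_) _ (conj_mem_cj hx) t (by rw [cj_one]; exact ht)).symm
    rw [cj_one] at e
    exact hcent h hh e x hx
  have hmul := Multiset.mul_noncommProd_erase S.1 hxS comm
  rw [← hy, hy1] at hmul
  have hxc : x ∈ centralizer (T : Set G) := by
    have h' := eq_inv_of_mul_eq_one_left hmul
    rw [h']
    exact inv_mem hrest
  have hcen : (⟨x, hx⟩ : T) ∈ center T :=
    mem_center_iff.mpr fun g => Subtype.ext (hxc g g.2)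
  rcases hTs.eq_bot_or_eq_top_of_normal (center T) inferInstance with e | e
  · rw [e, mem_bot] at hcen
    exact hx1 hcen
  · exact hTna fun a b => mem_center_iff.mp (e ▸ mem_top b) a

end Cfsg.Agent.ExtremelyPrim
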