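import Cfsg.Agent.ExtremelyPrim.Basic
import Cfsg.Agent.S3494
import Mathlib

/-!
Abelian normal subgroups of a point stabiliser of an extremely primitive group are regular on
every non-trivial suborbit and self-centralising there.
-/

set_option autoImplicit false

namespace Cfsg.Agent.ExtremelyPrim

open MulAction Subgroup
open scoped Pointwise

/-- A linear action on a finite `ZMod p`-space of order `p ^ e` as a map to `GL e p`. -/
theorem exists_GL {H V : Type*} [Group H] [AddCommGroup V] [Finite V] (p : ℕ) [Fact p.Prime]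
    [Module (ZMod p) V] {e : ℕ} (he : Nat.card V = p ^ e) (ρ : H → V →+ V)
    (h1 : ∀ v, ρ 1 v = v) (hm : ∀ g h v, ρ (g * h) v = ρ g (ρ h v)) :
    ∃ φ : H →* GL (Fin e) (ZMod p), ∀ h, φ h = 1 ↔ ∀ v, ρ h v = v := by
  have hd : Module.finrank (ZMod p) V = e := by
    have h := Module.natCard_eq_pow_finrank (K := ZMod p) (V := V)
    rw [he, Nat.card_zmod] at h
    exact (Nat.pow_right_injective (Fact.out : p.Prime).two_le h).symm
  let b : Module.Basis (Fin e) (ZMod p) V := Module.finBasisOfFinrankEq _ _ hd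
  let f : H → Module.End (ZMod p) V := fun h => (ρ h).toZModLinearMap p
  have hf : ∀ h v, f h v = ρ h v := fun _ _ => rfl
  let ψ : H →* Module.End (ZMod p) V :=
    ⟨⟨f, LinearMap.ext fun v => by rw [hf, h1, Module.End.one_apply]⟩,
      fun g h => LinearMap.ext fun v => by rw [hf, hm]; rfl⟩
  let M := LinearMap.toMatrixAlgEquiv b
  let μ : H →* Matrix (Fin e) (Fin e) (ZMod p) :=
    ⟨⟨fun h => M (ψ h), (congrArg M (map_one ψ)).trans (map_one M)⟩,
      fun g h => (congrArg M (map_mul ψ g h)).trans (map_mul M _ _)⟩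
  refine ⟨μ.toHomUnits, fun h => ?_⟩
  rw [Units.ext_iff, MonoidHom.coe_toHomUnits, Units.val_one]
  refine (map_eq_one_iff M M.injective).trans ⟨fun e v => ?_, fun e => LinearMap.ext fun v => ?_⟩
  · rw [← hf]
    exact LinearMap.congr_fun e v
  · exact (hf h v).trans (e v)

variable {G : Type*} [Group G] [Finite G] {Ω : Type*} [Fintype Ω] [MulAction G Ω]
  [FaithfulSMul G Ω]

theorem stab_ne_bot_all (hprim : IsPreprimitive G Ω) {α : Ω} (hH : stabilizer G α ≠ ⊥) :
    ∀ a : Ω, stabilizer G a ≠ ⊥ := by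
  intro a e
  have := hprim
  obtain ⟨g, hg⟩ := exists_smul_eq G a α
  refine hH (eq_bot_iff.mpr fun x hx => ?_)
  have : g⁻¹ * x * g ∈ stabilizer G a := by
    rw [mem_stabilizer_iff, mul_smul, mul_smul, hg, mem_stabilizer_iff.mp hx, ← hg, inv_smul_smul]
  rw [e, mem_bot] at this
  have h2 : x = g * (g⁻¹ * x * g) * g⁻¹ := by group
  rw [this, mul_one, mul_inv_cancel] at h2
  exact mem_bot.mpr h2

theorem exists_ne_point {α : Ω} (hH : stabilizer G α ≠ ⊥) : ∃ ω : Ω, ω ≠ α := by
  by_contra h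
  push Not at h
  refine hH (eq_bot_iff.mpr fun x _ => mem_bot.mpr (eq_of_smul_eq_smul (α := Ω) fun y => ?_))
  rw [h (x • y), h ((1 : G) • y)]

/-- An element of the point stabiliser commuting with an abelian non-trivial normal subgroup lies
in it. -/
theorem mem_of_centralises (hprim : IsPreprimitive G Ω) (hep : EPrim G Ω) {α : Ω}
    {L : Subgroup G} (hL : L ≠ ⊥) (hle : L ≤ stabilizer G α)
    (hn : stabilizer G α ≤ normalizer (L : Set G)) (hab : ∀ a ∈ L, ∀ b ∈ L, a * b = b * a)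
    {c : G} (hc : c ∈ stabilizer G α) (hcom : ∀ a ∈ L, a * c = c * a) : c ∈ L := by
  have hH : stabilizer G α ≠ ⊥ := fun e => hL (le_bot_iff.mp (e ▸ hle))
  obtain ⟨ω, hω⟩ := exists_ne_point hH
  obtain ⟨l, hl, e⟩ := transitive_of_normal hprim hep hL hle hn
    (mem_orbit_stab_iff.mpr ⟨c, hc, rfl⟩ : c • ω ∈ orbit (stabilizer G α) ω)
  have h1 : l⁻¹ * c = 1 := by
    refine congrArg Subtype.val (Cfsg.Agent.S3494.result hprim (stab_ne_bot_all hprim hH) hep α ω hω
      ⟨l⁻¹ * c, (stabilizer G α).mul_mem ((stabilizer G α).inv_mem (hle hl)) hc⟩ fun x hx => ?_)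
    obtain ⟨m, hm, rfl⟩ := transitive_of_normal hprim hep hL hle hn hx
    show (l⁻¹ * c) • m • ω = m • ω
    rw [← mul_smul, mul_assoc, ← hcom m hm, ← mul_assoc, show l⁻¹ * m = m * l⁻¹ from
      hab _ (inv_mem hl) _ hm, mul_assoc, mul_smul, mul_smul, ← e, inv_smul_smul]
  rwa [inv_mul_eq_one.mp h1] at hl

/-- A non-trivial abelian normal subgroup of a point stabiliser fixes no other point. -/
theorem eq_one_of_fix (hprim : IsPreprimitive G Ω) (hep : EPrim G Ω) {α : Ω}
    {L : Subgroup G} (hle : L ≤ stabilizer G α)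
    (hn : stabilizer G α ≤ normalizer (L : Set G)) (hab : ∀ a ∈ L, ∀ b ∈ L, a * b = b * a)
    {l : G} (hl : l ∈ L) {ω : Ω} (hω : ω ≠ α) (hfix : l • ω = ω) : l = 1 := by
  by_contra hne
  have hL : L ≠ ⊥ := fun e => hne (mem_bot.mp (e ▸ hl))
  have hH : stabilizer G α ≠ ⊥ := fun e => hL (le_bot_iff.mp (e ▸ hle))
  refine hne (congrArg Subtype.val (Cfsg.Agent.S3494.result hprim (stab_ne_bot_all hprim hH) hep α ω
    hω ⟨l, hle hl⟩ fun x hx => ?_))
  obtain ⟨m, hm, rfl⟩ := transitive_of_normal hprim hep hL hle hn hx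
  show l • m • ω = m • ω
  rw [← mul_smul, hab l hl m hm, mul_smul, hfix]

/-- The order of such a subgroup is the size of every non-trivial suborbit. -/
theorem card_eq_sz (hprim : IsPreprimitive G Ω) (hep : EPrim G Ω) {α : Ω}
    {L : Subgroup G} (hL : L ≠ ⊥) (hle : L ≤ stabilizer G α)
    (hn : stabilizer G α ≤ normalizer (L : Set G)) (hab : ∀ a ∈ L, ∀ b ∈ L, a * b = b * a)
    {ω : Ω} (hω : ω ≠ α) : Nat.card (orbit (stabilizer G α) ω) = Nat.card L := by
  refine (Nat.card_eq_of_bijective (fun l : L =>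
    (⟨(l : G) • ω, mem_orbit_stab_iff.mpr ⟨l, hle l.2, rfl⟩⟩ : orbit (stabilizer G α) ω)) ⟨?_, ?_⟩).symm
  · intro a b h
    have h' : (a : G) • ω = (b : G) • ω := congrArg Subtype.val h
    have := eq_one_of_fix hprim hep hle hn hab (mul_mem (inv_mem b.2) a.2) hω
      (by rw [mul_smul, h', inv_smul_smul])
    exact Subtype.ext (inv_mul_eq_one.mp this).symm
  · rintro ⟨x, hx⟩
    obtain ⟨l, hl, e⟩ := transitive_of_normal hprim hep hL hle hn hx
    exact ⟨⟨l, hl⟩, Subtype.ext e⟩

/-- Its order divides the number of the other points. -/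
theorem card_dvd_pred (hprim : IsPreprimitive G Ω) (hep : EPrim G Ω) {α : Ω}
    {L : Subgroup G} (hle : L ≤ stabilizer G α)
    (hn : stabilizer G α ≤ normalizer (L : Set G)) (hab : ∀ a ∈ L, ∀ b ∈ L, a * b = b * a) :
    Nat.card L ∣ Fintype.card Ω - 1 := by
  classical
  let S : SubMulAction L Ω :=
    { carrier := {x | x ≠ α}
      smul_mem' := fun l x hx h => hx (MulAction.injective (l : G)
        (h.trans (mem_stabilizer_iff.mp (hle l.2)).symm)) }
  have hst : ∀ x : S, stabilizer L x = ⊥ := fun x => eq_bot_iff.mpr fun l hl => mem_bot.mpr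
    (Subtype.ext (eq_one_of_fix hprim hep hle hn hab l.2 x.2
      (congrArg Subtype.val (mem_stabilizer_iff.mp hl))))
  have e1 := Nat.card_congr (selfEquivSigmaOrbitsQuotientStabilizer L S)
  have e2 : ∀ ω : Quotient (orbitRel L S), Nat.card (L ⧸ stabilizer L ω.out) = Nat.card L :=
    fun ω => by rw [hst, ← index_eq_card, index_bot]
  rw [Nat.card_sigma, Finset.sum_congr rfl fun ω _ => e2 ω, Finset.sum_const, smul_eq_mul] at e1
  have hS : Nat.card S = Fintype.card Ω - 1 :=
    (Nat.card_eq_fintype_card (α := {x : Ω // x ≠ α})).trans (Set.card_ne_eq α)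
  exact hS ▸ Dvd.intro_left _ e1.symm

end Cfsg.Agent.ExtremelyPrim
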